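import Mathlib

/-! The radical completion of a finite algebra over a semilocal Noetherian ring is relatively formally smooth. -/

set_option autoImplicit false

universe u

open TensorProduct

namespace H1CplRel

variable {R : Type u} [CommRing R]

theorem evalₐ_factor (I : Ideal R) {m n : ℕ} (h : m ≤ n) (x : AdicCompletion I R) :
    Ideal.Quotient.factorPow I h (AdicCompletion.evalₐ I n x) = AdicCompletion.evalₐ I m x := by
  rw [← AdicCompletion.factor_eval_eq_evalₐ I x (le_of_eq (Ideal.mul_top _)),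
    ← AdicCompletion.factor_eval_eq_evalₐ I x (le_of_eq (Ideal.mul_top _))]
  obtain ⟨a, ha⟩ := Submodule.Quotient.mk_surjective _ (x.val n)
  change Ideal.Quotient.factorPow I h (Submodule.factor _ (x.val n)) = Submodule.factor _ (x.val m)
  rw [← x.2 h, ← ha]
  rfl

theorem exists_cofinal_equiv {Q J : Ideal R} (hQJ : Q ≤ J) {N : ℕ} (hN : J ^ N ≤ Q) :
    ∃ Ψ : AdicCompletion Q R →ₐ[R] AdicCompletion J R, Function.Bijective Ψ := by
  let f : ∀ n, AdicCompletion Q R →ₐ[R] R ⧸ J ^ n := fun n =>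
    (Ideal.Quotient.factorₐ R (Ideal.pow_right_mono hQJ n)).comp (AdicCompletion.evalₐ Q n)
  have hf : ∀ {m n : ℕ} (hle : m ≤ n),
      (Ideal.Quotient.factorₐ R (Ideal.pow_le_pow_right hle)).comp (f n) = f m := fun {m n} hle =>
    AlgHom.ext fun x => by
      obtain ⟨a, ha⟩ := Ideal.Quotient.mk_surjective (AdicCompletion.evalₐ Q n x)
      have h1 := evalₐ_factor Q hle x
      simp only [f, AlgHom.comp_apply, ← h1, ← ha]
      rfl
  have hle : ∀ n, J ^ (N * n) ≤ Q ^ n := fun n => (pow_mul J N n).trans_le (Ideal.pow_right_mono hN n)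
  let g : ∀ n, AdicCompletion J R →ₐ[R] R ⧸ Q ^ n := fun n =>
    (Ideal.Quotient.factorₐ R (hle n)).comp (AdicCompletion.evalₐ J (N * n))
  have hg : ∀ {m n : ℕ} (hle : m ≤ n),
      (Ideal.Quotient.factorₐ R (Ideal.pow_le_pow_right hle)).comp (g n) = g m := fun {m n} hle' =>
    AlgHom.ext fun x => by
      obtain ⟨a, ha⟩ := Ideal.Quotient.mk_surjective (AdicCompletion.evalₐ J (N * n) x)
      have h1 := evalₐ_factor J (Nat.mul_le_mul_left N hle') x
      simp only [g, AlgHom.comp_apply, ← h1, ← ha]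
      rfl
  let Ψ := AdicCompletion.liftAlgHom J f hf
  let Φ := AdicCompletion.liftAlgHom Q g hg
  refine ⟨Ψ, Function.bijective_iff_has_inverse.2 ⟨Φ, fun x => AdicCompletion.ext_evalₐ fun n => ?_,
    fun y => AdicCompletion.ext_evalₐ fun n => ?_⟩⟩
  · rw [AdicCompletion.evalₐ_liftAlgHom Q g hg]
    simp only [g, AlgHom.comp_apply]
    rw [AdicCompletion.evalₐ_liftAlgHom J f hf]
    simp only [f, AlgHom.comp_apply]
    rcases Nat.eq_zero_or_pos N with rfl | hpos
    · have hQ : Q ^ n = ⊤ := top_le_iff.1 (by simpa using hle n)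
      haveI := Ideal.Quotient.subsingleton_iff.2 hQ
      exact Subsingleton.elim _ _
    · have hn : n ≤ N * n := Nat.le_mul_of_pos_left n hpos
      obtain ⟨a, ha⟩ := Ideal.Quotient.mk_surjective (AdicCompletion.evalₐ Q (N * n) x)
      have h1 := evalₐ_factor Q hn x
      rw [← h1, ← ha]
      rfl
  · rw [AdicCompletion.evalₐ_liftAlgHom J f hf]
    simp only [f, AlgHom.comp_apply]
    rw [AdicCompletion.evalₐ_liftAlgHom Q g hg]
    simp only [g, AlgHom.comp_apply]
    rcases Nat.eq_zero_or_pos N with rfl | hpos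
    · have hQ : Q = ⊤ := top_le_iff.1 (by simpa using hN)
      have hJ : J = ⊤ := top_le_iff.1 (hQ ▸ hQJ)
      haveI := Ideal.Quotient.subsingleton_iff.2
        (show J ^ n = ⊤ by rw [hJ, ← Ideal.one_eq_top, one_pow])
      exact Subsingleton.elim _ _
    · have hn : n ≤ N * n := Nat.le_mul_of_pos_left n hpos
      obtain ⟨a, ha⟩ := Ideal.Quotient.mk_surjective (AdicCompletion.evalₐ J (N * n) y)
      have h1 := evalₐ_factor J hn y
      rw [← h1, ← ha]
      rfl

variable {A : Type u} [CommRing A] [Algebra R A]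

/-- `A ⊗ R^ ≅ A^` for finite `A` over Noetherian `R`. -/
theorem exists_tensor_equiv [IsNoetherianRing R] [Module.Finite R A] (I : Ideal R) :
    ∃ Φ : A ⊗[R] AdicCompletion I R →ₐ[A] AdicCompletion (I.map (algebraMap R A)) A,
      Function.Bijective Φ := by
  let Q := I.map (algebraMap R A)
  have hmap : ∀ n, I ^ n ≤ (Q ^ n).comap (algebraMap R A) := fun n => by
    rw [← Ideal.map_le_iff_le_comap, Ideal.map_pow]
  let p : ∀ n, R ⧸ I ^ n →ₐ[R] A ⧸ Q ^ n := fun n =>
    Ideal.Quotient.liftₐ (I ^ n) ((Ideal.Quotient.mkₐ R (Q ^ n)).comp (Algebra.ofId R A))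
      fun r hr => Ideal.Quotient.eq_zero_iff_mem.2 (hmap n hr)
  let h : ∀ n, A ⊗[R] AdicCompletion I R →ₐ[A] A ⧸ Q ^ n := fun n =>
    Algebra.TensorProduct.lift (Algebra.ofId A (A ⧸ Q ^ n))
      ((p n).comp (AdicCompletion.evalₐ I n)) fun _ _ => Commute.all _ _
  have htmul : ∀ n a r, h n (a ⊗ₜ r) =
      Ideal.Quotient.mk (Q ^ n) a * p n (AdicCompletion.evalₐ I n r) := fun n a r =>
    Algebra.TensorProduct.lift_tmul _ _ _ _ _
  have hh : ∀ {m n : ℕ} (hle : m ≤ n),
      (Ideal.Quotient.factorₐ A (Ideal.pow_le_pow_right hle)).comp (h n) = h m := fun {m n} hle => by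
    refine Algebra.TensorProduct.ext' fun a r => ?_
    rw [AlgHom.comp_apply, htmul, htmul, map_mul, ← evalₐ_factor I hle r]
    obtain ⟨c, hc⟩ := Ideal.Quotient.mk_surjective (AdicCompletion.evalₐ I n r)
    rw [← hc]
    rfl
  let Φ := AdicCompletion.liftAlgHom Q h hh
  refine ⟨Φ, ?_⟩
  have hsub : ∀ n, (I ^ n • ⊤ : Submodule R A) = (Q ^ n).restrictScalars R := fun n => by
    rw [Ideal.smul_top_eq_map, Ideal.map_pow]
  let θ : ∀ n, (A ⧸ (I ^ n • ⊤ : Submodule R A)) ≃ₗ[R] A ⧸ Q ^ n := fun n =>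
    (Submodule.quotEquivOfEq _ _ (hsub n)).trans (Submodule.Quotient.restrictScalarsEquiv R _)
  have hθ : ∀ n a, θ n (Submodule.Quotient.mk a) = Ideal.Quotient.mk (Q ^ n) a := fun n a => rfl
  let τ : A ⊗[R] AdicCompletion I R → AdicCompletion I A := fun z =>
    AdicCompletion.ofTensorProduct I A (TensorProduct.comm R A (AdicCompletion I R) z)
  have hτ : Function.Bijective τ :=
    (AdicCompletion.ofTensorProduct_bijective_of_finite_of_isNoetherian I A).comp
      (TensorProduct.comm R A (AdicCompletion I R)).bijective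
  have hval : ∀ n z, AdicCompletion.evalₐ Q n (Φ z) = θ n ((τ z).val n) := by
    intro n z
    rw [AdicCompletion.evalₐ_liftAlgHom Q h hh]
    induction z with
    | zero => simp [τ]
    | add x y hx hy =>
      simp only [τ, map_add, AdicCompletion.val_add_apply] at hx hy ⊢
      rw [hx, hy]
    | tmul a r =>
      rw [htmul]
      obtain ⟨c, hc⟩ := Submodule.Quotient.mk_surjective _ (r.val n)
      have h1 : AdicCompletion.evalₐ I n r = Ideal.Quotient.mk (I ^ n) c := by
        rw [← AdicCompletion.factor_eval_eq_evalₐ I r (le_of_eq (Ideal.mul_top _))]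
        show Submodule.factor _ (r.val n) = _
        rw [← hc]
        rfl
      have h2 : (τ (a ⊗ₜ r)).val n = Submodule.Quotient.mk (c • a) := by
        simp only [τ, TensorProduct.comm_tmul, AdicCompletion.ofTensorProduct_tmul]
        rw [AdicCompletion.smul_eval, ← hc]
        rfl
      rw [h1, h2, hθ, Algebra.smul_def]
      show Ideal.Quotient.mk (Q ^ n) a * Ideal.Quotient.mk (Q ^ n) (algebraMap R A c) = _
      rw [← map_mul, mul_comm]
  refine ⟨(injective_iff_map_eq_zero Φ).2 fun z hz => ?_, fun y => ?_⟩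
  · have h0 : τ z = τ 0 := by
      refine AdicCompletion.ext fun n => (θ n).injective ?_
      rw [← hval, ← hval, hz, map_zero Φ]
    exact hτ.1 h0
  · let x : AdicCompletion I A :=
      ⟨fun n => (θ n).symm (AdicCompletion.evalₐ Q n y), fun {m n} hmn => by
        obtain ⟨a, ha⟩ := Submodule.Quotient.mk_surjective _ ((θ n).symm (AdicCompletion.evalₐ Q n y))
        apply (θ m).injective
        rw [LinearEquiv.apply_symm_apply, ← evalₐ_factor Q hmn y]
        have ha' : AdicCompletion.evalₐ Q n y = Ideal.Quotient.mk (Q ^ n) a := by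
          rw [← hθ, ha, LinearEquiv.apply_symm_apply]
        dsimp only
        rw [← ha, ha']
        rfl⟩
    obtain ⟨z, hz⟩ := hτ.2 x
    refine ⟨z, AdicCompletion.ext_evalₐ fun n => ?_⟩
    rw [hval, hz]
    exact (θ n).apply_symm_apply _

theorem radical_bounds [IsNoetherianRing R] [Finite (MaximalSpectrum R)] [Module.Finite R A] :
    ((⊥ : Ideal R).jacobson.map (algebraMap R A) ≤ (⊥ : Ideal A).jacobson) ∧
      ∃ N, (⊥ : Ideal A).jacobson ^ N ≤ (⊥ : Ideal R).jacobson.map (algebraMap R A) := by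
  haveI : Algebra.IsIntegral R A := Algebra.IsIntegral.of_finite R A
  haveI : IsNoetherianRing A := IsNoetherianRing.of_finite R A
  haveI := Fintype.ofFinite (MaximalSpectrum R)
  refine ⟨?_, ?_⟩
  · refine le_sInf fun M ⟨_, hM⟩ => ?_
    haveI := hM
    exact Ideal.map_le_iff_le_comap.2 (sInf_le ⟨bot_le, Ideal.isMaximal_comap_of_isIntegral_of_isMaximal M⟩)
  · refine Ideal.exists_pow_le_of_le_radical_of_fg ?_ (IsNoetherian.noetherian _)
    rw [Ideal.radical_eq_sInf]
    refine le_sInf fun q ⟨hle, hq⟩ => ?_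
    haveI := hq
    have h1 : Finset.univ.inf (fun m : MaximalSpectrum R => m.asIdeal) ≤ q.comap (algebraMap R A) := by
      refine le_trans ?_ (Ideal.map_le_iff_le_comap.1 hle)
      exact le_sInf fun m ⟨_, hm⟩ => Finset.inf_le (f := fun m : MaximalSpectrum R => m.asIdeal)
        (Finset.mem_univ ⟨m, hm⟩)
    obtain ⟨m, -, hm⟩ := (Ideal.IsPrime.inf_le' (hq.comap (algebraMap R A))).1 h1
    have h2 : (q.comap (algebraMap R A)).IsMaximal :=
      (m.isMaximal.eq_of_le (hq.comap (algebraMap R A)).ne_top hm) ▸ m.isMaximal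
    exact sInf_le ⟨bot_le, Ideal.isMaximal_of_isIntegral_of_isMaximal_comap q h2⟩

end H1CplRel
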